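import Cfsg.Agent.CosetCert.LyChain2.FactsData
import Cfsg.Agent.CosetCert.LyChain2.JustData
import Cfsg.Agent.CosetCert.LyChain2.TableData
import Cfsg.Prelude.Def_Spor_Ly
import Cfsg.Agent.CosetCert.CoxExtra
import Cfsg.Agent.CosetCert.Pack

/-! Generated: the certificate. -/

set_option maxRecDepth 100000

namespace Cfsg.Agent.CosetCert.LyChain2

noncomputable def data : Data where
  K := 16
  n := 3125
  M := 3203
  Nf := 25488
  nR := 45
  iv := fun x => if x < 8 then x + 8 else if x < 16 then x - 8 else x
  F := get48 factStore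
  J := getVar justStore
  E := get48 edgeStore
  L := get48 repStore
  P := get48 treeStore
  W := [
    [0, 0, 0, 0, 0, 0, 0, 0],
    [1, 1, 1, 1, 1],
    [0, 1, 0, 1, 0, 1, 0, 1],
    [8, 8, 9, 0, 0, 1],
    [8, 9, 0, 1, 8, 9, 0, 1, 8, 9, 0, 1],
    [3, 10],
    [4, 8, 10, 0],
    [5, 9, 10, 1],
    [6, 1, 10, 9],
    [7, 12, 11, 4, 3],
    [3, 3, 3, 3, 3],
    [7, 7, 7, 7, 7],
    [11, 15, 3, 7],
    [12, 15, 4, 7],
    [13, 15, 5, 7],
    [14, 15, 6, 7],
    [11, 13, 3, 5, 7, 7],
    [11, 14, 3, 6, 15, 15],
    [12, 13, 4, 5, 7],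
    [12, 14, 4, 6],
    [13, 14, 5, 6, 7],
    [8, 4, 0, 3, 3],
    [8, 5, 0, 14, 11, 5, 5],
    [8, 6, 0, 14, 11, 14, 5, 4, 11],
    [8, 7, 0, 15, 15],
    [9, 4, 1, 6, 3, 6, 13, 12],
    [9, 5, 1, 5, 5, 14, 11, 11],
    [9, 7, 1, 15],
    [],
    [0, 8],
    [1, 9],
    [2, 10],
    [3, 11],
    [4, 12],
    [5, 13],
    [6, 14],
    [7, 15],
    [8, 0],
    [9, 1],
    [10, 2],
    [11, 3],
    [12, 4],
    [13, 5],
    [14, 6],
    [15, 7],
    [0],
    [1]]
  PW := fun k => Nat.land (Nat.shiftRight 0x20000000000000001000000000000011000000000000000ef00000000000000ce00000000000000ad000000000000008c000000000000006b000000000000004a0000000000000029000000000000020800000000000001e700000000000001c600000000000001a500000000000001840000000000000163000000000000014200000000000001210000000000000000000000000008090a000000631e6308ca0000006b8e4388aa000000000108050900000c299ec784e9000000018cc784c900000000004204a900000000008399ee00000000000395ed00000000008315cd00000000210391ec00000000108311cc0000000000041e0f0000000000041a0e000000000004160d000000000004120c00000000008421080000000000421084000000000042b1a80000000000052c470000000000012d46000000000000ad2500000000000001640105491054910549000000000410a929000000104411044100000000002108420000000842108421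 (Nat.mul 64 k)) 0xffffffffffffffff
  powers := [
    ([0, 0, 0, 0, 0, 0, 0, 0], 1),
    ([1, 1, 1, 1, 1], 1),
    ([0, 1, 0, 1, 0, 1, 0, 1], 1),
    ([8, 8, 9, 0, 0, 1], 1),
    ([8, 9, 0, 1, 8, 9, 0, 1, 8, 9, 0, 1], 1),
    ([3, 10], 1),
    ([4, 8, 10, 0], 1),
    ([5, 9, 10, 1], 1),
    ([6, 1, 10, 9], 1),
    ([7, 12, 11, 4, 3], 1),
    ([3, 3, 3, 3, 3], 1),
    ([7, 7, 7, 7, 7], 1),
    ([11, 15, 3, 7], 1),
    ([12, 15, 4, 7], 1),
    ([13, 15, 5, 7], 1),
    ([14, 15, 6, 7], 1),
    ([11, 13, 3, 5, 7, 7], 1),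
    ([11, 14, 3, 6, 15, 15], 1),
    ([12, 13, 4, 5, 7], 1),
    ([12, 14, 4, 6], 1),
    ([13, 14, 5, 6, 7], 1),
    ([8, 4, 0, 3, 3], 1),
    ([8, 5, 0, 14, 11, 5, 5], 1),
    ([8, 6, 0, 14, 11, 14, 5, 4, 11], 1),
    ([8, 7, 0, 15, 15], 1),
    ([9, 4, 1, 6, 3, 6, 13, 12], 1),
    ([9, 5, 1, 5, 5, 14, 11, 11], 1),
    ([9, 7, 1, 15], 1),
    ([], 1),
    ([0, 8], 1),
    ([1, 9], 1),
    ([2, 10], 1),
    ([3, 11], 1),
    ([4, 12], 1),
    ([5, 13], 1),
    ([6, 14], 1),
    ([7, 15], 1),
    ([8, 0], 1),
    ([9, 1], 1),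
    ([10, 2], 1),
    ([11, 3], 1),
    ([12, 4], 1),
    ([13, 5], 1),
    ([14, 6], 1),
    ([15, 7], 1)]

/-- The relators. -/
def relWords : List (List (Fin 8 × Bool)) := [
    [(0, true), (0, true), (0, true), (0, true), (0, true), (0, true), (0, true), (0, true)],
    [(1, true), (1, true), (1, true), (1, true), (1, true)],
    [(0, true), (1, true), (0, true), (1, true), (0, true), (1, true), (0, true), (1, true)],
    [(0, false), (0, false), (1, false), (0, true), (0, true), (1, true)],
    [(0, false), (1, false), (0, true), (1, true), (0, false), (1, false), (0, true), (1, true), (0, false), (1, false), (0, true), (1, true)],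
    [(3, true), (2, false)],
    [(4, true), (0, false), (2, false), (0, true)],
    [(5, true), (1, false), (2, false), (1, true)],
    [(6, true), (1, true), (2, false), (1, false)],
    [(7, true), (4, false), (3, false), (4, true), (3, true)],
    [(3, true), (3, true), (3, true), (3, true), (3, true)],
    [(7, true), (7, true), (7, true), (7, true), (7, true)],
    [(3, false), (7, false), (3, true), (7, true)],
    [(4, false), (7, false), (4, true), (7, true)],
    [(5, false), (7, false), (5, true), (7, true)],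
    [(6, false), (7, false), (6, true), (7, true)],
    [(3, false), (5, false), (3, true), (5, true), (7, true), (7, true)],
    [(3, false), (6, false), (3, true), (6, true), (7, false), (7, false)],
    [(4, false), (5, false), (4, true), (5, true), (7, true)],
    [(4, false), (6, false), (4, true), (6, true)],
    [(5, false), (6, false), (5, true), (6, true), (7, true)],
    [(0, false), (4, true), (0, true), (3, true), (3, true)],
    [(0, false), (5, true), (0, true), (6, false), (3, false), (5, true), (5, true)],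
    [(0, false), (6, true), (0, true), (6, false), (3, false), (6, false), (5, true), (4, true), (3, false)],
    [(0, false), (7, true), (0, true), (7, false), (7, false)],
    [(1, false), (4, true), (1, true), (6, true), (3, true), (6, true), (5, false), (4, false)],
    [(1, false), (5, true), (1, true), (5, true), (5, true), (6, false), (3, false), (3, false)],
    [(1, false), (7, true), (1, true), (7, false)]]

/-- The subgroup's generators. -/
def subLetters : List (Fin 8) := [0, 1]

/-- The numbering of the generators. -/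
def enc (b : Fin 8) : Nat := b.val

/-- The generator of a number. -/
def dec (x : Nat) : Fin 8 × Bool := if x < 8 then (Fin.ofNat 8 x, true) else (Fin.ofNat 8 x, false)

/-- The generators among those of the Lyons group. -/
def ren : Fin 8 → Cfsg.Spor.Ly.Gen
  | ⟨0, _⟩ => .a
  | ⟨1, _⟩ => .b
  | ⟨2, _⟩ => .c
  | ⟨3, _⟩ => .c1
  | ⟨4, _⟩ => .c2
  | ⟨5, _⟩ => .c3
  | ⟨6, _⟩ => .c4
  | ⟨7, _⟩ => .c5

end Cfsg.Agent.CosetCert.LyChain2
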