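import Cfsg.Agent.CosetCert.LyChain2.CheckLog
import Cfsg.Agent.CosetCert.LyChain2.CheckTable
import Cfsg.Agent.CosetCert.Upper
import Cfsg.Agent.CosetCert.Chain

/-! Generated: the index. -/

set_option maxRecDepth 100000

namespace Cfsg.Agent.CosetCert.LyChain2

theorem log_valid : data.LogValid where
  n_pos := by decide +kernel
  root := by decide +kernel
  log := log_ok
  coset := coset_ok
  iv_iv := by decide +kernel
  iv_big := fun x hx => by
    change 16 ≤ x at hx
    show (if x < 8 then x + 8 else if x < 16 then x - 8 else x) = x
    split_ifs <;> omega
  pw := by decide +kernel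
  letters := by decide +kernel
  K_small := by decide +kernel
  nR_le := by decide +kernel

theorem spells : Data.Spells data (wordRels relWords) (subLetters.map FreeGroup.of) enc dec relWords := by
  apply spells_words_extra data
  · show ∀ b : Fin 8, _
    decide +kernel
  · decide +kernel
  · intro x hx
    left
    revert x
    decide +kernel
  · decide +kernel
  · decide +kernel

theorem index_bound : (Data.sub (wordRels relWords) (subLetters.map FreeGroup.of)).index ≠ 0 ∧
    (Data.sub (wordRels relWords) (subLetters.map FreeGroup.of)).index ≤ 3125 :=
  Data.index_le log_valid spells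

end Cfsg.Agent.CosetCert.LyChain2
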